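import Cfsg.Agent.G2T.FWA
import Cfsg.Agent.S3210

/-!
# Fong-Wong configurations: reduction to the diagonal case
-/

set_option autoImplicit false

namespace Cfsg.Lib.G2T

open Matrix Cfsg.Lib.Trans Subgroup
open scoped MatrixGroups

theorem fw_cases {G : Type*} [Group G] [Finite G]
    {F₁ : Type*} [Field F₁] [Fintype F₁] {F₂ : Type*} [Field F₂] [Fintype F₂]
    (h12 : DD G F₁ F₂ → Nat.card F₁ < Nat.card F₂ → Nat.card F₂ = Nat.card F₁ ^ 3)
    (h21 : DD G F₂ F₁ → Nat.card F₂ < Nat.card F₁ → Nat.card F₁ = Nat.card F₂ ^ 3)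
    (hF₁ : Odd (Fintype.card F₁)) (hF₂ : Odd (Fintype.card F₂)) (L₁ L₂ : Subgroup G)
    (e₁ : L₁ ≃* SL(2, F₁)) (e₂ : L₂ ≃* SL(2, F₂))
    (hc : ∀ x ∈ L₁, ∀ y ∈ L₂, x * y = y * x) (j : G) (hj : orderOf j = 2)
    (hm : L₁ ⊓ L₂ = zpowers j) (hle : L₁ ⊔ L₂ ≤ centralizer ({j} : Set G))
    (hi : (L₁ ⊔ L₂).relIndex (centralizer ({j} : Set G)) = 2)
    (hG : centralizer ({j} : Set G) ⊔ oddCore G ≠ ⊤) :
    (Fintype.card F₁ = Fintype.card F₂ ∧ ¬ (L₁.subgroupOf (centralizer ({j} : Set G))).Normal ∧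
        ¬ (L₂.subgroupOf (centralizer ({j} : Set G))).Normal) ∨
      (Fintype.card F₁ = Fintype.card F₂ ∧ (L₁.subgroupOf (centralizer ({j} : Set G))).Normal ∧
        (L₂.subgroupOf (centralizer ({j} : Set G))).Normal) ∨
      (Fintype.card F₁ = Fintype.card F₂ ^ 3 ∨ Fintype.card F₂ = Fintype.card F₁ ^ 3) := by
  have j1 : j ∈ L₁ := (hm.ge (mem_zpowers j)).1
  have j2 : j ∈ L₂ := (hm.ge (mem_zpowers j)).2
  have l1 := le_sup_left.trans hle
  have l2 := le_sup_right.trans hle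
  by_cases h : ∀ n ∈ centralizer ({j} : Set G), n ∉ L₁ ⊔ L₂ → cj n L₁ = L₁ ∧ cj n L₂ = L₂
  swap
  · push Not at h
    obtain ⟨n, hn, hn', h⟩ := h
    obtain ⟨h1, h2, -⟩ := (Agent.S3210.result hF₁ hF₂ L₁ L₂ e₁ e₂ hc j hj hm hle hi n hn
      hn').resolve_left fun e => h e.1 e.2
    have h3 : L₁ ≠ L₂ := fun e => Local.SL2.sub_not_le e₁ hF₁ hj j1 (by rw [← hm, ← e, inf_idem])
    refine .inl ⟨h2, fun e => h3 ?_, fun e => h3 ?_⟩
    · rw [← h1]
      exact (cj_eq_of_mem_normalizer ((normal_subgroupOf_iff_le_normalizer l1).1 e hn)).symm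
    · refine cj_injective n (h1.trans ?_)
      exact (cj_eq_of_mem_normalizer ((normal_subgroupOf_iff_le_normalizer l2).1 e hn)).symm
  have n1 : centralizer ({j} : Set G) ≤ normalizer (L₁ : Set G) := fun c hc' =>
    (em _).elim (fun e => sup_le le_normalizer (fun y hy => centralizer_le_normalizer _
      fun x hx => hc x hx y hy) e) fun e => cj_eq_self_iff.1 (h c hc' e).1
  have n2 : centralizer ({j} : Set G) ≤ normalizer (L₂ : Set G) := fun c hc' =>
    (em _).elim (fun e => sup_le (fun x hx => centralizer_le_normalizer _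
      fun y hy => (hc x hx y hy).symm) le_normalizer e) fun e => cj_eq_self_iff.1 (h c hc' e).2
  have r1 : (L₁.subtype.comp e₁.symm.toMonoidHom).range = L₁ := by
    rw [MonoidHom.range_comp, MonoidHom.range_eq_top.2 e₁.symm.surjective, ← MonoidHom.range_eq_map,
      range_subtype]
  have r2 : (L₂.subtype.comp e₂.symm.toMonoidHom).range = L₂ := by
    rw [MonoidHom.range_comp, MonoidHom.range_eq_top.2 e₂.symm.surjective, ← MonoidHom.range_eq_map,
      range_subtype]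
  obtain ⟨Δ, -⟩ := FW.exists_dd (G := G) (F₁ := F₁) (F₂ := F₂)
    { φ₁ := L₁.subtype.comp e₁.symm.toMonoidHom
      φ₂ := L₂.subtype.comp e₂.symm.toMonoidHom
      j := j
      odd₁ := by rwa [Nat.card_eq_fintype_card]
      odd₂ := by rwa [Nat.card_eq_fintype_card]
      inj₁ := L₁.subtype_injective.comp e₁.symm.injective
      inj₂ := L₂.subtype_injective.comp e₂.symm.injective
      comm := fun a b => hc _ (e₁.symm a).2 _ (e₂.symm b).2
      j₁ := congrArg Subtype.val (e₁.symm_apply_eq.2 (Local.SL2.map_j e₁ hF₁ hj j1).symm)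
      j₂ := congrArg Subtype.val (e₂.symm_apply_eq.2 (Local.SL2.map_j e₂ hF₂ hj j2).symm)
      idx := by rwa [r1, r2]
      nm₁ := fun c hc' a => r1.ge (mem_normalizer_conj (n1 hc') (e₁.symm a).2)
      nm₂ := fun c hc' a => r2.ge (mem_normalizer_conj (n2 hc') (e₂.symm a).2) } hG
  rw [← Nat.card_eq_fintype_card, ← Nat.card_eq_fintype_card]
  rcases lt_trichotomy (Nat.card F₁) (Nat.card F₂) with e | e | e
  · exact .inr (.inr (.inr (h12 Δ e)))
  · exact .inr (.inl ⟨e, (normal_subgroupOf_iff_le_normalizer l1).2 n1,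
      (normal_subgroupOf_iff_le_normalizer l2).2 n2⟩)
  · exact .inr (.inr (.inl (h21 Δ.swap e)))

end Cfsg.Lib.G2T
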